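import Groth.Prelude.Def_DeltaF
import Mathlib.CategoryTheory.Limits.Shapes.Pullback.HasPullback
import Mathlib.Algebra.Homology.ShortComplex.Abelian
import Mathlib.CategoryTheory.Abelian.DiagramLemmas.Four
import Mathlib.CategoryTheory.Abelian.FunctorCategory
import Mathlib.CategoryTheory.Limits.FunctorCategory.EpiMono
import Mathlib.CategoryTheory.Abelian.Refinements

/-!
Effaceable delta-functors.
-/

set_option autoImplicit false

universe v u v' u'

open CategoryTheory CategoryTheory.Limits DeltaF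

namespace Groth.Agent.DeltaFun

variable {A : Type u} [Category.{v} A] [Abelian A] {B : Type u'} [Category.{v'} B] [Abelian B]

/-- The short exact sequence of a monomorphism. -/
noncomputable abbrev ses {X Y : A} (u : X ⟶ Y) : ShortComplex A :=
  ShortComplex.mk u (cokernel.π u) (cokernel.condition u)

theorem ses_shortExact {X Y : A} (u : X ⟶ Y) [Mono u] : (ses u).ShortExact :=
  { exact := ShortComplex.exact_of_g_is_cokernel _ (cokernelIsCokernel u) }

/-- A morphism of short exact sequences over a given first square. -/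
theorem exists_hom {S : ShortComplex A} (hS : S.ShortExact) {X Y : A} (u : X ⟶ Y) (f : S.X₁ ⟶ X)
    (g : S.X₂ ⟶ Y) (w : f ≫ u = S.f ≫ g) :
    ∃ φ : S ⟶ ses u, φ.τ₁ = f := by
  have := hS.epi_g
  refine ⟨ShortComplex.homMk f g
    (hS.exact.desc (g ≫ cokernel.π u) (by rw [← Category.assoc, ← w, Category.assoc, cokernel.condition, comp_zero]))
    w ?_, rfl⟩
  exact (hS.exact.g_desc _ _).symm

theorem epi_δ {T : CohDeltaFunctor A B ℕ} {X Y : A} (u : X ⟶ Y) [Mono u] (n : ℕ)
    (h : (T.F (n + 1)).map u = 0) : Epi (T.δ _ (ses_shortExact u) n (n + 1) rfl) :=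
  (T.exact₁ _ (ses_shortExact u) n (n + 1) rfl).epi_f h

/-- There is a further effaced monomorphism receiving two given ones. -/
theorem exists_effacing {T : CohDeltaFunctor A B ℕ} (hT : T.IsEffaceable) (n : ℕ) {X : A} {Y : A}
    (u : X ⟶ Y) [Mono u] {X' : A} (f : X ⟶ X') {Y' : A} (u' : X' ⟶ Y') [Mono u'] :
    ∃ (W : A) (w : X' ⟶ W) (g : Y ⟶ W) (g' : Y' ⟶ W), Mono w ∧ (T.F (n + 1)).map w = 0 ∧
      f ≫ w = u ≫ g ∧ w = u' ≫ g' := by
  let p : X' ⟶ pushout u f := pushout.inr u f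
  obtain ⟨W, q, hq, hq'⟩ := hT n (pushout p u')
  refine ⟨W, p ≫ pushout.inl p u' ≫ q, pushout.inl u f ≫ pushout.inl p u' ≫ q,
    pushout.inr p u' ≫ q, inferInstance, ?_, ?_, ?_⟩
  · simp only [Functor.map_comp, hq', comp_zero]
  · rw [← Category.assoc, ← pushout.condition, Category.assoc]
  · rw [← Category.assoc, pushout.condition, Category.assoc]

variable {T T' : CohDeltaFunctor A B ℕ}

theorem step_aux (n : ℕ) (t : T.F n ⟶ T'.F n) {S : ShortComplex A} (hS : S.ShortExact) {X Y : A}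
    (u : X ⟶ Y) [Mono u] (f : S.X₁ ⟶ X) (g : S.X₂ ⟶ Y) (w : f ≫ u = S.f ≫ g)
    (m : (T.F (n + 1)).obj X ⟶ (T'.F (n + 1)).obj X)
    (hm : T.δ _ (ses_shortExact u) n (n + 1) rfl ≫ m =
      t.app _ ≫ T'.δ _ (ses_shortExact u) n (n + 1) rfl) :
    T.δ S hS n (n + 1) rfl ≫ (T.F (n + 1)).map f ≫ m =
      t.app S.X₃ ≫ T'.δ S hS n (n + 1) rfl ≫ (T'.F (n + 1)).map f := by
  obtain ⟨φ, rfl⟩ := exists_hom hS u f g w
  have e1 := T.δ_natural hS (ses_shortExact u) φ n (n + 1) rfl
  have e2 := T'.δ_natural hS (ses_shortExact u) φ n (n + 1) rfl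
  exact ((Category.assoc _ _ _).symm.trans (congrArg (· ≫ m) e1.symm)).trans
    ((Category.assoc _ _ _).trans <| (congrArg ((T.F n).map φ.τ₃ ≫ ·) hm).trans <|
      (t.naturality_assoc φ.τ₃ _).trans (congrArg (t.app S.X₃ ≫ ·) e2))

theorem existsUnique_step (hT : T.IsEffaceable) (n : ℕ) (t : T.F n ⟶ T'.F n) :
    ∃! s : T.F (n + 1) ⟶ T'.F (n + 1), ∀ (S : ShortComplex A) (hS : S.ShortExact),
      T.δ S hS n (n + 1) rfl ≫ s.app S.X₁ = t.app S.X₃ ≫ T'.δ S hS n (n + 1) rfl := by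
  have hex : ∀ {X Y : A} (u : X ⟶ Y) [Mono u], (T.F (n + 1)).map u = 0 →
      ∃ m, T.δ _ (ses_shortExact u) n (n + 1) rfl ≫ m =
        t.app _ ≫ T'.δ _ (ses_shortExact u) n (n + 1) rfl := by
    intro X Y u _ h
    have := epi_δ u n h
    refine ⟨(T.exact₃ _ (ses_shortExact u) n (n + 1) rfl).desc
      (t.app _ ≫ T'.δ _ (ses_shortExact u) n (n + 1) rfl) ?_,
      (T.exact₃ _ (ses_shortExact u) n (n + 1) rfl).g_desc _ _⟩
    exact (t.naturality_assoc _ _).trans
      ((congrArg (t.app _ ≫ ·) (T'.comp_δ _ (ses_shortExact u) n (n + 1) rfl)).trans comp_zero)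
  choose Y u hu hu0 using fun X => hT n X
  haveI := hu
  choose s hs using fun X => hex (u X) (hu0 X)
  have key : ∀ (S : ShortComplex A) (hS : S.ShortExact) {X : A} (f : S.X₁ ⟶ X),
      T.δ S hS n (n + 1) rfl ≫ (T.F (n + 1)).map f ≫ s X =
        t.app S.X₃ ≫ T'.δ S hS n (n + 1) rfl ≫ (T'.F (n + 1)).map f := by
    intro S hS X f
    haveI := hS.mono_f
    obtain ⟨W, w, g, g', hw, hw0, e, e'⟩ := exists_effacing hT n S.f f (u X)
    obtain ⟨m, hm⟩ := hex w hw0
    have h1 := step_aux n t hS w f g e m hm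
    have h2 := step_aux n t (ses_shortExact (u X)) w (𝟙 X) g' (by rw [Category.id_comp]; exact e') m hm
    haveI := epi_δ (u X) n (hu0 X)
    have h3 : s X = m := by
      rw [← cancel_epi (T.δ _ (ses_shortExact (u X)) n (n + 1) rfl), hs]
      simpa using h2.symm
    rw [h3]
    exact h1
  refine ⟨{ app := s, naturality := fun X X' f => ?_ }, fun S hS => ?_, fun s' hs' => ?_⟩
  · haveI := epi_δ (u X) n (hu0 X)
    rw [← cancel_epi (T.δ _ (ses_shortExact (u X)) n (n + 1) rfl)]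
    refine (key _ (ses_shortExact (u X)) f).trans ?_
    rw [← Category.assoc, ← hs X, Category.assoc]
  · simpa using key S hS (𝟙 S.X₁)
  · ext X
    haveI := epi_δ (u X) n (hu0 X)
    rw [← cancel_epi (T.δ _ (ses_shortExact (u X)) n (n + 1) rfl)]
    exact (hs' _ (ses_shortExact (u X))).trans (hs X).symm

theorem isUniversal_of_isEffaceable (hT : T.IsEffaceable) : T.IsUniversal := by
  intro T' t
  choose next hnext huniq using fun n (t : T.F n ⟶ T'.F n) => existsUnique_step hT n t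
  let app : ∀ n, T.F n ⟶ T'.F n := fun n => Nat.rec t next n
  refine ⟨⟨app, fun S hS n₀ n₁ h => ?_⟩, rfl, fun τ hτ => ?_⟩
  · subst h
    exact hnext n₀ (app n₀) S hS
  · ext n : 1
    induction n with
    | zero => exact hτ
    | succ n ih =>
      exact huniq n (app n) _ fun S hS => (τ.comm S hS n (n + 1) rfl).trans (by rw [ih])

theorem mono_succ (hT : T.IsEffaceable) (φ : T ⟶ T') (i : ℕ) (he : Epi (φ.app i)) (hm : Mono (φ.app i)) :
    Mono (φ.app (i + 1)) := by
  have : ∀ X, Mono ((φ.app (i + 1)).app X) := fun X => by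
    obtain ⟨Y, u, hu, hu0⟩ := hT i X
    have := epi_δ u i hu0
    refine Preadditive.mono_of_cancel_zero _ fun {Z} k hk => ?_
    obtain ⟨Z₁, π₁, _, z, hz⟩ := surjective_up_to_refinements_of_epi
      (T.δ _ (ses_shortExact u) i (i + 1) rfl) k
    have h1 : (z ≫ (φ.app i).app (cokernel u)) ≫ T'.δ _ (ses_shortExact u) i (i + 1) rfl = 0 := by
      refine (Category.assoc _ _ _).trans ?_
      refine (congrArg (z ≫ ·) (φ.comm _ (ses_shortExact u) i (i + 1) rfl).symm).trans ?_
      rw [← Category.assoc, ← hz, Category.assoc]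
      exact (congrArg (π₁ ≫ ·) hk).trans comp_zero
    obtain ⟨Z₂, π₂, _, y', hy'⟩ :=
      (T'.exact₃ _ (ses_shortExact u) i (i + 1) rfl).exact_up_to_refinements _ h1
    have := (NatTrans.epi_iff_epi_app (φ.app i)).1 he Y
    obtain ⟨Z₃, π₃, _, y, hy⟩ := surjective_up_to_refinements_of_epi ((φ.app i).app Y) y'
    have := (NatTrans.mono_iff_mono_app (φ.app i)).1 hm (cokernel u)
    have h2 : π₃ ≫ π₂ ≫ z = y ≫ (T.F i).map (cokernel.π u) := by
      rw [← cancel_mono ((φ.app i).app (cokernel u))]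
      simp only [Category.assoc]
      refine (congrArg (π₃ ≫ ·) hy').trans ?_
      rw [(φ.app i).naturality, ← reassoc_of% hy]
    rw [← cancel_epi π₁, ← cancel_epi π₂, ← cancel_epi π₃, hz, comp_zero, comp_zero, comp_zero,
      ← Category.assoc π₂, ← Category.assoc π₃, h2, Category.assoc]
    exact (congrArg (y ≫ ·) (T.comp_δ _ (ses_shortExact u) i (i + 1) rfl)).trans comp_zero
  exact NatTrans.mono_of_mono_app _

theorem epi_succ (hT : T.IsEffaceable) (φ : T ⟶ T') (i : ℕ) (he : Epi (φ.app i))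
    (h' : ∀ X : A, ∃ (Y : A) (u : X ⟶ Y), Mono u ∧ (T'.F (i + 1)).map u = 0) :
    Epi (φ.app (i + 1)) := by
  have : ∀ X, Epi ((φ.app (i + 1)).app X) := fun X => by
    obtain ⟨Y, u, hu, hu0⟩ := h' X
    have : Epi (T'.δ _ (ses_shortExact u) i (i + 1) rfl) := epi_δ u i hu0
    have e := φ.comm _ (ses_shortExact u) i (i + 1) rfl
    have : Epi (T.δ _ (ses_shortExact u) i (i + 1) rfl ≫ (φ.app (i + 1)).app X) := by
      have := (NatTrans.epi_iff_epi_app (φ.app i)).1 he (ses u).X₃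
      rw [e]; exact epi_comp _ _
    exact epi_of_epi (T.δ _ (ses_shortExact u) i (i + 1) rfl) _
  exact NatTrans.epi_of_epi_app _

theorem iso_mono_iff (hT : T.IsEffaceable) (φ : T ⟶ T') (n : ℕ) :
    ((∀ i : ℕ, i ≤ n → IsIso (φ.app i)) ∧ Mono (φ.app (n + 1)) ↔
      (Mono (φ.app 0) ∧ ∀ i : ℕ, i ≤ n → Epi (φ.app i))) ∧
    ((∀ i : ℕ, i ≤ n → IsIso (φ.app i)) ∧ Mono (φ.app (n + 1)) ↔
      (IsIso (φ.app 0) ∧ ∀ i : ℕ, 0 < i → i ≤ n → ∀ X : A, ∃ (Y : A) (u : X ⟶ Y), Mono u ∧ (T'.F i).map u = 0)) := by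
  refine ⟨⟨fun ⟨h, _⟩ => ⟨have := h 0 (by omega); inferInstance, fun i hi => have := h i hi; inferInstance⟩,
    fun ⟨h0, h⟩ => ?_⟩, ⟨fun ⟨h, _⟩ => ⟨h 0 (by omega), fun i hi hin X => ?_⟩, fun ⟨h0, h⟩ => ?_⟩⟩
  · have key : ∀ i, i ≤ n + 1 → Mono (φ.app i) := by
      intro i
      induction i with
      | zero => exact fun _ => h0
      | succ i ih => exact fun hi => mono_succ hT φ i (h i (by omega)) (ih (by omega))
    refine ⟨fun i hi => ?_, key _ le_rfl⟩
    have := key i (by omega)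
    have := h i hi
    exact isIso_of_mono_of_epi _
  · obtain ⟨j, rfl⟩ := Nat.exists_eq_succ_of_ne_zero hi.ne'
    obtain ⟨Y, u, hu, hu0⟩ := hT j X
    have := h _ hin
    refine ⟨Y, u, hu, ?_⟩
    rw [← cancel_epi ((φ.app (j + 1)).app X), comp_zero, ← (φ.app (j + 1)).naturality, hu0, zero_comp]
  · have key : ∀ i, i ≤ n → IsIso (φ.app i) := by
      intro i
      induction i with
      | zero => exact fun _ => h0
      | succ i ih =>
        intro hi
        have := ih (by omega)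
        have := mono_succ hT φ i inferInstance inferInstance
        have := epi_succ hT φ i inferInstance (h (i + 1) (by omega) hi)
        exact isIso_of_mono_of_epi _
    have := key n le_rfl
    exact ⟨key, mono_succ hT φ n inferInstance inferInstance⟩

end Groth.Agent.DeltaFun
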